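import Groth.Agent.H6Perf.Basic
import Groth.Agent.H6Tor.Res
import Groth.Agent.H9Misc.TorBaseChange

/-!
# Tor of perfect algebras over perfect rings
-/

universe u

open CategoryTheory TensorProduct

namespace Groth.Agent.H6Perf

open Groth.Agent.H6Tor

variable {A : Type u} [CommRing A]

theorem isZero_tor_iff {M N : Type u} [AddCommGroup M] [Module A M] [AddCommGroup N] [Module A N]
    (P : ProjectiveResolution (ModuleCat.of A M)) (j : ℕ) :
    Limits.IsZero (((Tor (ModuleCat.{u} A) (j + 1)).obj (ModuleCat.of A M)).obj (ModuleCat.of A N)) ↔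
      ∀ x : ↥(P.complex.X (j + 1)) ⊗[A] N, (P.complex.d (j + 1) j).hom.rTensor N x = 0 →
        ∃ y, (P.complex.d (j + 1 + 1) (j + 1)).hom.rTensor N y = x := by
  constructor
  · intro h x hx
    have h' := h.of_iso (H9Misc.TorBalance.torIso' P (ModuleCat.of A N) (j + 1)).symm
    rw [← HomologicalComplex.exactAt_iff_isZero_homology,
      HomologicalComplex.exactAt_iff' _ (j + 1 + 1) (j + 1) j (by simp) (by simp),
      ShortComplex.ShortExact.moduleCat_exact_iff_function_exact] at h'
    exact (h' x).1 hx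
  · intro h
    rw [Limits.IsZero.iff_id_eq_zero, ← CategoryTheory.Functor.map_id]
    exact tor_map_eq_zero_of P j LinearMap.id fun x hx => by simpa using h x hx

theorem isZero_tor_symm {M N : Type u} [AddCommGroup M] [Module A M] [AddCommGroup N] [Module A N] {j : ℕ}
    (h : Limits.IsZero (((Tor (ModuleCat.{u} A) j).obj (ModuleCat.of A M)).obj (ModuleCat.of A N))) :
    Limits.IsZero (((Tor (ModuleCat.{u} A) j).obj (ModuleCat.of A N)).obj (ModuleCat.of A M)) :=
  h.of_iso (H9Misc.TorBalance.torSymm _ _ j)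

/-- Base change for vanishing of Tor. -/
theorem isZero_tor_baseChange {A' : Type u} [CommRing A'] [Algebra A A'] (P : Type u) [AddCommGroup P] [Module A P]
    (Q : Type u) [AddCommGroup Q] [Module A' Q] [Module A Q] [IsScalarTower A A' Q]
    (hP : ∀ q : ℕ, 0 < q → Limits.IsZero (((Tor (ModuleCat.{u} A) q).obj (ModuleCat.of A P)).obj (ModuleCat.of A A')))
    {n : ℕ} (h : Limits.IsZero (((Tor (ModuleCat.{u} A') n).obj (ModuleCat.of A' (A' ⊗[A] P))).obj (ModuleCat.of A' Q))) :
    Limits.IsZero (((Tor (ModuleCat.{u} A) n).obj (ModuleCat.of A P)).obj (ModuleCat.of A Q)) := by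
  obtain ⟨φ, hφ⟩ := H9Misc.TorBaseChange.exists_semilinear A A' Q P
    (fun q hq => ModuleCat.subsingleton_of_isZero (hP q hq)) n
  haveI := ModuleCat.subsingleton_of_isZero h
  haveI : Subsingleton ↥(((Tor (ModuleCat.{u} A) n).obj (ModuleCat.of A P)).obj (ModuleCat.of A Q)) :=
    hφ.1.subsingleton
  exact ModuleCat.isZero_of_subsingleton _

section OneRoot

variable (r : ℕ → A) (p : ℕ)

/-- The relations between successive roots. -/
noncomputable def relMap : (ℕ →₀ A) →ₗ[A] (ℕ →₀ A) :=
  Finsupp.linearCombination A fun n => Finsupp.single n 1 - Finsupp.single (n + 1) (r (n + 1) ^ (p - 1))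

/-- The generators. -/
noncomputable def genMap : (ℕ →₀ A) →ₗ[A] A := Finsupp.linearCombination A r

variable {r p}

theorem relMap_apply (x : ℕ →₀ A) (N : ℕ) :
    relMap r p x N = x N - if N = 0 then 0 else x (N - 1) * r N ^ (p - 1) := by
  induction x using Finsupp.induction_linear with
  | zero => simp
  | add x y hx hy => rw [map_add, Finsupp.add_apply, hx, hy, Finsupp.add_apply, Finsupp.add_apply]; split_ifs <;> ring
  | single n a =>
    simp only [relMap, Finsupp.linearCombination_single, Finsupp.smul_apply, Finsupp.sub_apply, smul_eq_mul]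
    rcases N with _ | N
    · simp [Finsupp.single_apply]
    · simp only [Nat.succ_ne_zero, if_false, Nat.add_sub_cancel, Finsupp.single_apply, mul_sub, mul_ite, mul_one, mul_zero]
      by_cases hn : n = N
      · subst hn; simp
      · simp [hn]

theorem relMap_injective : Function.Injective (relMap r p) := by
  refine (injective_iff_map_eq_zero _).2 fun x hx => Finsupp.ext fun N => ?_
  induction N with
  | zero => simpa [relMap_apply] using DFunLike.congr_fun hx 0
  | succ N ih =>
    have := DFunLike.congr_fun hx (N + 1)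
    rw [relMap_apply, if_neg (Nat.succ_ne_zero N), Nat.add_sub_cancel, ih] at this
    simpa using this

variable (hp : 2 ≤ p) (hr : ∀ n, r (n + 1) ^ p = r n) (hred : ∀ c : A, c ^ p = 0 → c = 0)

include hp hr in
theorem genMap_comp_relMap : genMap r ∘ₗ relMap r p = 0 := Finsupp.lhom_ext fun n a => by
  simp only [LinearMap.comp_apply, relMap, genMap, Finsupp.linearCombination_single, map_smul, map_sub,
    LinearMap.zero_apply, one_smul, smul_eq_mul]
  rw [← pow_succ, Nat.sub_add_cancel (by omega), hr, one_mul, sub_self, mul_zero]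

include hp hr hred in
theorem exact_relMap : Function.Exact (relMap r p) (genMap r) := by
  refine LinearMap.exact_iff.2 (le_antisymm ?_ ?_)
  swap
  · rintro _ ⟨x, rfl⟩
    exact LinearMap.congr_fun (genMap_comp_relMap hp hr) x
  have hlift : ∀ x : ℕ →₀ A, ∃ N c, x - Finsupp.single N c ∈ LinearMap.range (relMap r p) := by
    have hpush : ∀ N c k, ∃ c', Finsupp.single N c - Finsupp.single (N + k) c' ∈ LinearMap.range (relMap r p) := by
      intro N c k
      induction k with
      | zero => exact ⟨c, by simp⟩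
      | succ k ih =>
        obtain ⟨c', hc'⟩ := ih
        refine ⟨c' * r (N + k + 1) ^ (p - 1), ?_⟩
        have h1 : Finsupp.single (N + k) c' - Finsupp.single (N + k + 1) (c' * r (N + k + 1) ^ (p - 1)) ∈
            LinearMap.range (relMap r p) := ⟨Finsupp.single (N + k) c', by
          simp [relMap, smul_sub, Finsupp.smul_single]⟩
        simpa [add_assoc] using add_mem hc' h1
    intro x
    induction x using Finsupp.induction_linear with
    | zero => exact ⟨0, 0, by simp⟩
    | single n a => exact ⟨n, a, by simp⟩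
    | add x y hx hy =>
      obtain ⟨N, c, hx⟩ := hx
      obtain ⟨N', c', hy⟩ := hy
      obtain ⟨d, hd⟩ := hpush N c N'
      obtain ⟨d', hd'⟩ := hpush N' c' N
      refine ⟨N + N', d + d', ?_⟩
      have := add_mem (add_mem hx hy) (add_mem hd hd')
      rw [add_comm N' N] at this
      convert this using 1
      rw [Finsupp.single_add]
      abel
  intro x hx
  obtain ⟨N, c, hxc⟩ := hlift x
  have hc : c * r N = 0 := by
    obtain ⟨y, hy⟩ := hxc
    have := congrArg (genMap r) hy
    rw [← LinearMap.comp_apply, genMap_comp_relMap hp hr, LinearMap.zero_apply, map_sub, LinearMap.mem_ker.1 hx,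
      zero_sub, eq_comm, neg_eq_zero] at this
    simpa [genMap] using this
  have hc' : c * r (N + 1) ^ (p - 1) = 0 := by
    have h1 : c * r (N + 1) = 0 := hred _ (by
      rw [mul_pow, hr, show c ^ p = c ^ (p - 1) * c by rw [← pow_succ, Nat.sub_add_cancel (by omega)],
        mul_assoc, hc, mul_zero])
    rw [show p - 1 = (p - 2) + 1 by omega, pow_succ', ← mul_assoc, h1, zero_mul]
  have hmem : Finsupp.single N c ∈ LinearMap.range (relMap r p) := ⟨Finsupp.single N c, by
    simp [relMap, smul_sub, Finsupp.smul_single, hc']⟩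
  simpa using add_mem hxc hmem

/-- The terms of the resolution. -/
noncomputable def oneX (A : Type u) [CommRing A] : ℕ → ModuleCat.{u} A
  | 0 => ModuleCat.of A A
  | 1 => ModuleCat.of A (ℕ →₀ A)
  | 2 => ModuleCat.of A (ℕ →₀ A)
  | _ + 3 => ModuleCat.of A PUnit.{u + 1}

variable (r p) in
/-- The differentials of the resolution. -/
noncomputable def oneD : ∀ n, ↥(oneX A (n + 1)) →ₗ[A] ↥(oneX A n)
  | 0 => genMap r
  | 1 => relMap r p
  | _ + 2 => 0

variable (r p) in
include hp hr hred in
/-- The resolution of the quotient by all the roots. -/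
noncomputable def oneRes (J : Ideal A) (hJ : J = Ideal.span (Set.range r)) : Res A (A ⧸ J) where
  X := oneX A
  proj
    | 0 => inferInstanceAs (Module.Projective A A)
    | 1 => inferInstanceAs (Module.Projective A (ℕ →₀ A))
    | 2 => inferInstanceAs (Module.Projective A (ℕ →₀ A))
    | _ + 3 => inferInstanceAs (Module.Projective A PUnit.{u + 1})
  d := oneD r p
  ε := J.mkQ
  surj := J.mkQ_surjective
  exact₀ := fun (x : A) => by
    refine (Submodule.Quotient.mk_eq_zero J).trans ?_
    rw [hJ]
    exact Iff.trans ((SetLike.ext_iff.1 (Finsupp.range_linearCombination (R := A) (v := r))) x).symm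
      (Iff.rfl : x ∈ LinearMap.range (genMap r) ↔ x ∈ Set.range (genMap r))
  exact
    | 0 => exact_relMap (A := A) hp hr hred
    | 1 => fun (x : ℕ →₀ A) => by
      constructor
      · intro hx
        refine ⟨(PUnit.unit : PUnit.{u + 1}), ?_⟩
        change (0 : ℕ →₀ A) = x
        exact (relMap_injective (r := r) (p := p) (hx.trans (map_zero _).symm)).symm
      · rintro ⟨y, rfl⟩
        exact map_zero (relMap r p)
    | _ + 2 => fun (x : PUnit.{u + 1}) => ⟨fun _ => ⟨(PUnit.unit : PUnit.{u + 1}), rfl⟩, fun _ => rfl⟩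

include hp hr hred in
/-- The Tor of the quotient by all roots and a reduced algebra vanishes. -/
theorem isZero_tor_one {C : Type u} [CommRing C] [Algebra A C] (hredC : ∀ c : C, c ^ p = 0 → c = 0)
    (J : Ideal A) (hJ : J = Ideal.span (Set.range r)) (j : ℕ) :
    Limits.IsZero (((Tor (ModuleCat.{u} A) (j + 1)).obj (ModuleCat.of A (A ⧸ J))).obj (ModuleCat.of A C)) := by
  classical
  let P := oneRes r p hp hr hred J hJ
  rw [isZero_tor_iff P.toPR j]
  intro x hx
  rw [P.toPR_d] at hx
  rw [P.toPR_d]
  let s : ℕ → C := fun n => algebraMap A C (r n)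
  have hs : ∀ n, s (n + 1) ^ p = s n := fun n => by simp only [s, ← map_pow, hr]
  let e : (ℕ →₀ A) ⊗[A] C ≃ₗ[A] (ℕ →₀ C) := TensorProduct.finsuppScalarLeft A C ℕ
  have he : ∀ n a c, e (Finsupp.single n a ⊗ₜ[A] c) = Finsupp.single n (algebraMap A C a * c) := fun n a c => by
    ext m
    simp [e, Finsupp.single_apply, Algebra.smul_def]
    split_ifs <;> simp
  have hg : ∀ z : (ℕ →₀ A) ⊗[A] C, TensorProduct.lid A C ((genMap r).rTensor C z) = genMap s (e z) := fun z => by
    induction z using TensorProduct.induction_on with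
    | zero => simp
    | add a b ha hb => simp only [map_add, ha, hb]
    | tmul f c =>
      induction f using Finsupp.induction_linear with
      | zero => simp
      | add a b ha hb => simp only [add_tmul, map_add, ha, hb]
      | single n a =>
        rw [he, LinearMap.rTensor_tmul, TensorProduct.lid_tmul]
        simp only [genMap, Finsupp.linearCombination_single, s, Algebra.smul_def, map_mul, smul_eq_mul, Algebra.algebraMap_self, RingHom.id_apply]
        ring
  have hd : ∀ z : (ℕ →₀ A) ⊗[A] C, e ((relMap r p).rTensor C z) = relMap s p (e z) := fun z => by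
    induction z using TensorProduct.induction_on with
    | zero => simp
    | add a b ha hb => simp only [map_add, ha, hb]
    | tmul f c =>
      induction f using Finsupp.induction_linear with
      | zero => simp
      | add a b ha hb => simp only [add_tmul, map_add, ha, hb]
      | single n a =>
        rw [he, LinearMap.rTensor_tmul]
        simp only [relMap, Finsupp.linearCombination_single, smul_sub, Finsupp.smul_single, smul_eq_mul, mul_one,
          sub_tmul, map_sub, he, map_mul, map_pow, s]
        congr 2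
        ring
  rcases j with _ | _ | j
  · let x' : (ℕ →₀ A) ⊗[A] C := x
    have : genMap s (e x') = 0 := by
      rw [← hg]; exact (congrArg (TensorProduct.lid A C) hx).trans (map_zero _)
    obtain ⟨y, hy⟩ := (exact_relMap hp hs hredC _).1 this
    obtain ⟨y, rfl⟩ := e.surjective y
    exact ⟨y, e.injective ((hd y).trans hy)⟩
  · let x' : (ℕ →₀ A) ⊗[A] C := x
    have : x' = 0 := e.injective (relMap_injective (r := s) (p := p) (by
      rw [← hd, map_zero, map_zero]
      exact (congrArg e hx).trans (map_zero e)))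
    exact ⟨0, (map_zero _).trans this.symm⟩
  · let x' : PUnit.{u + 1} ⊗[A] C := x
    have : x' = 0 := by
      clear_value x'
      induction x' using TensorProduct.induction_on with
      | zero => rfl
      | tmul a c => rw [Subsingleton.elim a 0, zero_tmul]
      | add a b ha hb => rw [ha, hb, add_zero]
    exact ⟨0, (map_zero _).trans this.symm⟩

end OneRoot

variable {p : ℕ} [hp : Fact p.Prime]

theorem reduced_rootIdeal_tor (hA : IsPerf p A) {C : Type u} [CommRing C] [Algebra A C] (hC : IsPerf p C)
    (s : Finset A) : ∀ j : ℕ,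
      Limits.IsZero (((Tor (ModuleCat.{u} A) (j + 1)).obj (ModuleCat.of A (A ⧸ hA.rootIdeal (s : Set A)))).obj
        (ModuleCat.of A C)) := by
  classical
  induction s using Finset.induction_on with
  | empty =>
    intro j
    have h : hA.rootIdeal ((∅ : Finset A) : Set A) = ⊥ := by
      simp [IsPerf.rootIdeal, Set.range_eq_empty]
    haveI : Module.Projective A (A ⧸ hA.rootIdeal ((∅ : Finset A) : Set A)) :=
      Module.Projective.of_equiv (Submodule.quotEquivOfEqBot _ h).symm
    haveI : Projective (ModuleCat.of A (A ⧸ hA.rootIdeal ((∅ : Finset A) : Set A))) :=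
      (IsProjective.iff_projective _).1 inferInstance
    exact isZero_tor_symm (isZero_Tor_succ_of_projective (C := ModuleCat.{u} A) _ _ j)
  | @insert f s hf ih =>
    intro j
    let J := hA.rootIdeal (s : Set A)
    let A' := A ⧸ J
    have hA' : IsPerf p A' := hA.quotient J fun x hx => hA.mem_rootIdeal_of_pow _ hx
    let r : ℕ → A' := fun n => Ideal.Quotient.mk J (hA.root f n)
    let J₁ : Ideal A' := Ideal.span (Set.range r)
    let J' := hA.rootIdeal ((insert f s : Finset A) : Set A)
    have hJ' : J' = J ⊔ Ideal.span (Set.range (hA.root f)) := by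
      simp only [J', J, IsPerf.rootIdeal]
      rw [← Ideal.span_union]
      congr 1
      ext y
      simp only [Set.mem_range, Set.mem_union, Prod.exists, Subtype.exists, Finset.coe_insert, Set.mem_insert_iff,
        Finset.mem_coe]
      constructor
      · rintro ⟨a, ha | ha, n, rfl⟩
        · subst ha; exact Or.inr ⟨n, rfl⟩
        · exact Or.inl ⟨a, ha, n, rfl⟩
      · rintro (⟨a, ha, n, rfl⟩ | ⟨n, rfl⟩)
        · exact ⟨a, Or.inr ha, n, rfl⟩
        · exact ⟨f, Or.inl rfl, n, rfl⟩
    have hJ₁ : J₁ = (Ideal.span (Set.range (hA.root f))).map (Ideal.Quotient.mk J) := by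
      rw [Ideal.map_span]
      simp only [J₁, r, ← Set.range_comp]
      rfl
    let e : (A ⧸ J') ≃ₗ[A] (A' ⧸ J₁) :=
      ((Ideal.quotientEquivAlgOfEq A hJ').trans
        ((DoubleQuot.quotQuotEquivQuotSupₐ A J _).symm.trans
          (Ideal.quotientEquivAlgOfEq A hJ₁.symm))).toLinearEquiv
    have hT := hA'.tensor (B := A') (C := A') hA' hA'
    have hA'C : IsPerf p (A' ⊗[A] C) := hA.tensor hA' hC
    have h1 : Limits.IsZero (((Tor (ModuleCat.{u} A') (j + 1)).obj (ModuleCat.of A' (A' ⊗[A] C))).obj
        (ModuleCat.of A' (A' ⧸ J₁))) :=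
      isZero_tor_symm (isZero_tor_one hp.out.two_le
        (fun n => by simp only [r, ← map_pow, hA.root_succ_pow]) (fun c => hA'.eq_zero_of_pow)
        (fun c => hA'C.eq_zero_of_pow) J₁ rfl j)
    have h2 := isZero_tor_baseChange (A := A) C (A' ⧸ J₁) (fun q hq => by
      obtain ⟨q, rfl⟩ := Nat.exists_eq_add_of_le' (show 1 ≤ q by omega)
      exact isZero_tor_symm (ih q)) h1
    exact isZero_tor_symm (h2.of_iso (((Tor (ModuleCat.{u} A) (j + 1)).obj (ModuleCat.of A C)).mapIso
      e.toModuleIso))

/-- The quotient by any ideal with perfect quotient. -/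
theorem isZero_tor_quotient (hA : IsPerf p A) (I : Ideal A) (hI : ∀ x, x ^ p ∈ I → x ∈ I) {C : Type u}
    [CommRing C] [Algebra A C] (hC : IsPerf p C) (j : ℕ) :
    Limits.IsZero (((Tor (ModuleCat.{u} A) (j + 1)).obj (ModuleCat.of A C)).obj (ModuleCat.of A (A ⧸ I))) := by
  classical
  let P := Res.ofPR (ProjectiveResolution.of (ModuleCat.of A C))
  rw [isZero_tor_iff P.toPR j]
  intro x hx
  rw [P.toPR_d] at hx
  rw [P.toPR_d]
  let x' : ↥(P.X (j + 1)) ⊗[A] (A ⧸ I) := x
  obtain ⟨z, hz⟩ := LinearMap.lTensor_surjective ↥(P.X (j + 1)) I.mkQ_surjective x'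
  obtain ⟨x₀, rfl⟩ := (TensorProduct.rid A ↥(P.X (j + 1))).symm.surjective z
  rw [TensorProduct.rid_symm_apply, LinearMap.lTensor_tmul] at hz
  have hd : P.d j x₀ ∈ I • (⊤ : Submodule A ↥(P.X j)) := by
    have h1 : (P.d j).rTensor (A ⧸ I) (x₀ ⊗ₜ[A] (Ideal.Quotient.mk I 1)) = 0 :=
      (congrArg _ hz).trans hx
    have h2 := congrArg (tensorQuotEquivQuotSMul ↥(P.X j) I) h1
    rw [LinearMap.rTensor_tmul, tensorQuotEquivQuotSMul_tmul_mk, one_smul, map_zero] at h2
    exact (Submodule.Quotient.mk_eq_zero _).1 h2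
  obtain ⟨s, hsI, hds⟩ : ∃ s : Finset A, (s : Set A) ⊆ I ∧
      P.d j x₀ ∈ hA.rootIdeal (s : Set A) • (⊤ : Submodule A ↥(P.X j)) := by
    refine Submodule.smul_induction_on hd (fun a ha m _ => ⟨{a}, by simpa using ha, ?_⟩) ?_
    · exact Submodule.smul_mem_smul (Ideal.subset_span ⟨(⟨a, by simp⟩, 0), rfl⟩) trivial
    · rintro a b ⟨s, hs, ha⟩ ⟨t, ht, hb⟩
      have hmono : ∀ u v : Finset A, u ⊆ v → hA.rootIdeal (u : Set A) ≤ hA.rootIdeal (v : Set A) := fun u v huv =>
        Ideal.span_mono (by rintro _ ⟨⟨w, n⟩, rfl⟩; exact ⟨(⟨w, huv w.2⟩, n), rfl⟩)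
      exact ⟨s ∪ t, by rw [Finset.coe_union]; exact Set.union_subset hs ht,
        add_mem (Submodule.smul_mono (hmono _ _ Finset.subset_union_left) le_rfl ha)
          (Submodule.smul_mono (hmono _ _ Finset.subset_union_right) le_rfl hb)⟩
  let J := hA.rootIdeal (s : Set A)
  have hJI : J ≤ I := Ideal.span_le.2 (by
    rintro _ ⟨⟨⟨a, ha⟩, n⟩, rfl⟩
    induction n with
    | zero => exact hsI ha
    | succ n ih => exact hI _ (by rw [hA.root_succ_pow]; exact ih))
  have hJz : (P.d j).rTensor (A ⧸ J) (x₀ ⊗ₜ[A] Ideal.Quotient.mk J 1) = 0 := by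
    apply (tensorQuotEquivQuotSMul ↥(P.X j) J).injective
    rw [LinearMap.rTensor_tmul, tensorQuotEquivQuotSMul_tmul_mk, one_smul, map_zero]
    exact (Submodule.Quotient.mk_eq_zero _).2 hds
  have hIH := (isZero_tor_iff P.toPR j).1 (isZero_tor_symm (reduced_rootIdeal_tor hA hC s j))
  rw [P.toPR_d, P.toPR_d] at hIH
  obtain ⟨y, hy⟩ := hIH _ hJz
  let π : (A ⧸ J) →ₗ[A] (A ⧸ I) := J.mapQ I LinearMap.id hJI
  let y' : ↥(P.X (j + 1 + 1)) ⊗[A] (A ⧸ J) := y
  refine ⟨π.lTensor _ y', ?_⟩
  refine (rTensor_lTensor_apply (P.d (j + 1)) π y').trans ?_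
  rw [show (P.d (j + 1)).rTensor (A ⧸ J) y' = _ from hy]
  refine (LinearMap.lTensor_tmul _ π x₀ _).trans ?_
  exact hz

/-- Tor of perfect algebras over a perfect ring vanishes. -/
theorem isZero_tor_perfect (hA : IsPerf p A) {B C : Type u} [CommRing B] [Algebra A B] [CommRing C] [Algebra A C]
    (hB : IsPerf p B) (hC : IsPerf p C) (j : ℕ) :
    Limits.IsZero (((Tor (ModuleCat.{u} A) (j + 1)).obj (ModuleCat.of A C)).obj (ModuleCat.of A B)) := by
  classical
  let A' := MonoidAlgebra A B
  let π : A' →ₐ[A] B := MonoidAlgebra.lift A B B (MonoidHom.id B)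
  have hπ : Function.Surjective π := fun b =>
    ⟨MonoidAlgebra.single b 1, (MonoidAlgebra.lift_single _ _ _).trans (one_smul A b)⟩
  have hA' : IsPerf p A' := by
    have hz : (p : A') = 0 := by rw [← map_natCast (algebraMap A A'), hA.zero, map_zero]
    refine ⟨hz, ?_⟩
    let ψ : A' →+ A' :=
      { toFun := fun z => MonoidAlgebra.ofCoeff (Finsupp.mapRange hA.rt (map_zero _) (Finsupp.mapDomain hB.rt z.coeff))
        map_zero' := by simp
        map_add' := fun x y => by
          change MonoidAlgebra.ofCoeff (Finsupp.mapRange hA.rt (map_zero _) (Finsupp.mapDomain hB.rt (x.coeff + y.coeff))) =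
            MonoidAlgebra.ofCoeff (Finsupp.mapRange hA.rt (map_zero _) (Finsupp.mapDomain hB.rt x.coeff)) +
              MonoidAlgebra.ofCoeff (Finsupp.mapRange hA.rt (map_zero _) (Finsupp.mapDomain hB.rt y.coeff))
          rw [Finsupp.mapDomain_add, Finsupp.mapRange_add (map_add hA.rt), MonoidAlgebra.ofCoeff_add] }
    have hψ : ∀ b a, ψ (MonoidAlgebra.single b a) = MonoidAlgebra.single (hB.rt b) (hA.rt a) := fun b a => by
      simp [ψ]
    have hadd := fun x y : A' => add_pow' hz x y
    refine Function.bijective_iff_has_inverse.2 ⟨ψ, fun z => ?_, fun z => ?_⟩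
    · induction z using MonoidAlgebra.induction_linear with
      | zero => simp [zero_pow hp.out.ne_zero]
      | add x y hx hy => simp only [hadd, map_add, hx, hy]
      | single b a =>
        exact (congrArg ψ (MonoidAlgebra.single_pow b a p)).trans ((hψ _ _).trans (by rw [hB.pow_rt, hA.pow_rt]))
    · induction z using MonoidAlgebra.induction_linear with
      | zero => simp [zero_pow hp.out.ne_zero]
      | add x y hx hy => simp only [map_add, hadd, hx, hy]
      | single b a =>
        exact ((congrArg (· ^ p) (hψ b a)).trans (MonoidAlgebra.single_pow _ _ p)).trans (by rw [hB.rt_pow, hA.rt_pow])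
  letI : Algebra A' B := π.toRingHom.toAlgebra
  haveI : IsScalarTower A A' B := IsScalarTower.of_algebraMap_eq fun a => (π.commutes a).symm
  have hA'C : IsPerf p (A' ⊗[A] C) := hA.tensor hA' hC
  let I : Ideal A' := RingHom.ker π
  have hI : ∀ x, x ^ p ∈ I → x ∈ I := fun x hx => hB.eq_zero_of_pow (by rw [← map_pow]; exact hx)
  have h1 := isZero_tor_quotient hA' I hI hA'C j
  let e : (A' ⧸ I) ≃ₗ[A'] B := LinearEquiv.ofBijective
    (I.liftQ (Algebra.linearMap A' B) (fun x hx => hx))
    ⟨LinearMap.ker_eq_bot.1 (Submodule.ker_liftQ_eq_bot _ _ _ le_rfl), fun b => by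
      obtain ⟨x, hx⟩ := hπ b
      exact ⟨Submodule.Quotient.mk x, hx⟩⟩
  haveI : Module.Free A A' := Module.Free.of_equiv (MonoidAlgebra.coeffLinearEquiv A).symm
  haveI : Projective (ModuleCat.of A A') := (IsProjective.iff_projective _).1 Module.Projective.of_free
  refine isZero_tor_baseChange (A' := A') C B (fun q hq => ?_)
    (h1.of_iso (((Tor (ModuleCat.{u} A') (j + 1)).obj (ModuleCat.of A' (A' ⊗[A] C))).mapIso e.symm.toModuleIso))
  obtain ⟨q, rfl⟩ := Nat.exists_eq_add_of_le' (show 1 ≤ q by omega)
  exact isZero_Tor_succ_of_projective (C := ModuleCat.{u} A) _ _ q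

end Groth.Agent.H6Perf
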