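import Mathlib

/-!
# Perfect rings of a prime characteristic, possibly zero
-/

universe u

open TensorProduct

namespace Groth.Agent.H6Perf

/-- `p = 0` and the `p`-th power map is bijective. -/
structure IsPerf (p : ℕ) (R : Type*) [CommRing R] : Prop where
  zero : (p : R) = 0
  bij : Function.Bijective fun x : R => x ^ p

variable {p : ℕ} [hp : Fact p.Prime] {R : Type*} [CommRing R]

theorem add_pow' (h : (p : R) = 0) (x y : R) : (x + y) ^ p = x ^ p + y ^ p := by
  obtain ⟨r, hr⟩ := exists_add_pow_prime_eq hp.out x y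
  simp [hr, h]

/-- The `p`-th root. -/
noncomputable def IsPerf.rt (h : IsPerf p R) : R →+* R where
  toFun := Function.surjInv h.bij.2
  map_one' := h.bij.1 (by simp [Function.surjInv_eq h.bij.2 (1 : R)])
  map_mul' x y := h.bij.1 (by
    simp only [mul_pow]
    rw [Function.surjInv_eq h.bij.2 x, Function.surjInv_eq h.bij.2 y, Function.surjInv_eq h.bij.2 (x * y)])
  map_zero' := h.bij.1 (by simp [Function.surjInv_eq h.bij.2 (0 : R), zero_pow hp.out.ne_zero])
  map_add' x y := h.bij.1 (by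
    change Function.surjInv h.bij.2 (x + y) ^ p = (Function.surjInv h.bij.2 x + Function.surjInv h.bij.2 y) ^ p
    rw [add_pow' h.zero, Function.surjInv_eq h.bij.2 x, Function.surjInv_eq h.bij.2 y, Function.surjInv_eq h.bij.2 (x + y)])

theorem IsPerf.rt_pow (h : IsPerf p R) (x : R) : h.rt x ^ p = x := Function.surjInv_eq h.bij.2 x

theorem IsPerf.pow_rt (h : IsPerf p R) (x : R) : h.rt (x ^ p) = x := h.bij.1 (h.rt_pow (x ^ p))

theorem IsPerf.eq_zero_of_pow (h : IsPerf p R) {x : R} (hx : x ^ p = 0) : x = 0 :=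
  h.bij.1 (by simpa [zero_pow hp.out.ne_zero] using hx)

/-- The successive roots of an element. -/
noncomputable def IsPerf.root (h : IsPerf p R) (f : R) (n : ℕ) : R := (⇑h.rt)^[n] f

theorem IsPerf.root_succ_pow (h : IsPerf p R) (f : R) (n : ℕ) : h.root f (n + 1) ^ p = h.root f n := by
  rw [IsPerf.root, Function.iterate_succ_apply', h.rt_pow]
  rfl

/-- The ideal of all roots of a set. -/
noncomputable def IsPerf.rootIdeal (h : IsPerf p R) (s : Set R) : Ideal R :=
  Ideal.span (Set.range fun x : s × ℕ => h.root x.1 x.2)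

theorem IsPerf.quotient (h : IsPerf p R) (J : Ideal R) (hJ : ∀ x, x ^ p ∈ J → x ∈ J) :
    IsPerf p (R ⧸ J) := by
  refine ⟨by rw [← map_natCast (Ideal.Quotient.mk J), h.zero, map_zero], fun a b hab => ?_, fun a => ?_⟩
  · obtain ⟨a, rfl⟩ := Ideal.Quotient.mk_surjective a
    obtain ⟨b, rfl⟩ := Ideal.Quotient.mk_surjective b
    refine Ideal.Quotient.eq.2 (hJ _ ?_)
    simp only [← map_pow] at hab
    have h' : a ^ p - b ^ p ∈ J := Ideal.Quotient.eq.1 hab
    have e := add_pow' h.zero (a - b) b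
    rw [sub_add_cancel] at e
    rwa [e, add_sub_cancel_right] at h'
  · obtain ⟨a, rfl⟩ := Ideal.Quotient.mk_surjective a
    exact ⟨Ideal.Quotient.mk J (h.rt a), by simp only [← map_pow, h.rt_pow]⟩

theorem IsPerf.mem_rootIdeal_of_pow (h : IsPerf p R) (s : Set R) {x : R} (hx : x ^ p ∈ h.rootIdeal s) :
    x ∈ h.rootIdeal s := by
  have hle : (h.rootIdeal s).map h.rt ≤ h.rootIdeal s := by
    rw [IsPerf.rootIdeal, Ideal.map_span, Ideal.span_le]
    rintro _ ⟨_, ⟨⟨a, n⟩, rfl⟩, rfl⟩
    exact Ideal.subset_span ⟨(a, n + 1), Function.iterate_succ_apply' _ _ _⟩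
  rw [← h.pow_rt x]
  exact hle (Ideal.mem_map_of_mem _ hx)

theorem isPerf_of_algebra {A B : Type*} [CommRing A] [CommRing B] [Algebra A B] [CharP A p]
    (hB : Function.Bijective fun b : B => b ^ p) : IsPerf p B :=
  ⟨by rw [← map_natCast (algebraMap A B), CharP.cast_eq_zero A p, map_zero], hB⟩

theorem IsPerf.tensor {A B C : Type u} [CommRing A] [CommRing B] [CommRing C] [Algebra A B] [Algebra A C]
    (hA : IsPerf p A) (hB : IsPerf p B) (hC : IsPerf p C) : IsPerf p (B ⊗[A] C) := by
  have hz : (p : B ⊗[A] C) = 0 := by rw [← map_natCast (algebraMap A (B ⊗[A] C)), hA.zero, map_zero]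
  have hrt : ∀ {X : Type u} [CommRing X] [Algebra A X] (hX : IsPerf p X) (a : A) (x : X),
      hX.rt (a • x) = hA.rt a • hX.rt x := fun hX a x => by
    rw [Algebra.smul_def, Algebra.smul_def, map_mul]
    congr 1
    exact hX.bij.1 (by simp only [hX.rt_pow, ← map_pow, hA.rt_pow])
  let ψ : B ⊗[A] C →+ B ⊗[A] C :=
    TensorProduct.liftAddHom
      ({ toFun := fun b => (TensorProduct.mk A B C (hB.rt b)).toAddMonoidHom.comp hC.rt.toAddMonoidHom
         map_zero' := by ext; simp
         map_add' := fun x y => by ext; simp } : B →+ C →+ B ⊗[A] C)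
      (fun a b c => by
        change hB.rt (a • b) ⊗ₜ[A] hC.rt c = hB.rt b ⊗ₜ[A] hC.rt (a • c)
        rw [hrt hB, hrt hC, TensorProduct.smul_tmul])
  have hψ : ∀ b c, ψ (b ⊗ₜ[A] c) = hB.rt b ⊗ₜ[A] hC.rt c := fun _ _ => rfl
  have h1 : ∀ z, ψ z ^ p = z := fun z => by
    induction z using TensorProduct.induction_on with
    | zero => rw [map_zero, zero_pow hp.out.ne_zero]
    | tmul b c => rw [hψ, Algebra.TensorProduct.tmul_pow, hB.rt_pow, hC.rt_pow]
    | add x y hx hy => rw [map_add, add_pow' hz, hx, hy]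
  have h2 : ∀ z, ψ (z ^ p) = z := fun z => by
    induction z using TensorProduct.induction_on with
    | zero => rw [zero_pow hp.out.ne_zero, map_zero]
    | tmul b c => rw [Algebra.TensorProduct.tmul_pow, hψ, hB.pow_rt, hC.pow_rt]
    | add x y hx hy => rw [add_pow' hz, map_add, hx, hy]
  exact ⟨hz, Function.bijective_iff_has_inverse.2 ⟨ψ, h2, h1⟩⟩

end Groth.Agent.H6Perf
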