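import Groth.Agent.H6Perf.ProjPi
import Groth.Prelude.Def_FrobAlg
import Mathlib

/-!
# The perfect closure as a colimit of Frobenius pushforwards
-/

universe u v

open TensorProduct

namespace Groth.Agent.H6Perf

variable (p : ℕ) [Fact p.Prime] (R : Type u) [CommRing R] [CharP R p]

/-- `R` viewed over itself through the `n`-th iterate of Frobenius. -/
def Lvl (_p : ℕ) (R : Type u) (_n : ℕ) : Type u := R

instance (n : ℕ) : CommRing (Lvl p R n) := inferInstanceAs (CommRing R)

instance (n : ℕ) : Algebra R (Lvl p R n) :=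
  (iterateFrobenius R p n : R →+* Lvl p R n).toAlgebra

/-- The identity. -/
def Lvl.mk (n : ℕ) : R ≃+* Lvl p R n := RingEquiv.refl R

theorem algebraMap_lvl (n : ℕ) (r : R) :
    algebraMap R (Lvl p R n) r = Lvl.mk p R n (r ^ p ^ n) := rfl

/-- Composing with a ring equivalence between two copies. -/
theorem projective_lvl [Module.Projective R (FrobAlg.Twist p R)] : ∀ n, Module.Projective R (Lvl p R n)
  | 0 => Module.Projective.of_equiv ({ (Lvl.mk p R 0).toAddEquiv with
      map_smul' := fun r x => by
        change Lvl.mk p R 0 (r * x) = algebraMap R (Lvl p R 0) r * Lvl.mk p R 0 x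
        rw [algebraMap_lvl, pow_zero, pow_one, map_mul] } : R ≃ₗ[R] Lvl p R 0)
  | n + 1 => by
    haveI := projective_lvl n
    obtain ⟨s, hs⟩ := (Module.projective_def (R := R) (P := FrobAlg.Twist p R)).1 inferInstance
    -- the twist over the `n`-th level is the next level
    let mulT : FrobAlg.Twist p R → R → Lvl p R n := fun _ r => Lvl.mk p R n r
    let i : Lvl p R (n + 1) →ₗ[R] (FrobAlg.Twist p R →₀ Lvl p R n) :=
      { toFun := fun x => Finsupp.mapRange (Lvl.mk p R n) (map_zero _)
          (s (FrobAlg.toTwist p R ((Lvl.mk p R (n + 1)).symm x)))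
        map_add' := fun x y => by
          rw [map_add, map_add, map_add, Finsupp.mapRange_add (map_add _)]
        map_smul' := fun r x => by
          have h1 : FrobAlg.toTwist p R ((Lvl.mk p R (n + 1)).symm (r • x)) =
              (r ^ p ^ n) • FrobAlg.toTwist p R ((Lvl.mk p R (n + 1)).symm x) := by
            rw [Algebra.smul_def, Algebra.smul_def, map_mul, algebraMap_lvl, RingEquiv.symm_apply_apply, map_mul,
              FrobAlg.algebraMap_twist, ← pow_mul, ← pow_succ]
          rw [RingHom.id_apply, h1, map_smul]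
          refine Finsupp.ext fun t => ?_
          rw [Finsupp.mapRange_apply, Finsupp.smul_apply, Finsupp.smul_apply, Finsupp.mapRange_apply,
            Algebra.smul_def r, algebraMap_lvl, smul_eq_mul, map_mul] }
    let π : (FrobAlg.Twist p R →₀ Lvl p R n) →ₗ[R] Lvl p R (n + 1) :=
      Finsupp.lsum ℕ fun t =>
        { toFun := fun c => Lvl.mk p R (n + 1) ((FrobAlg.toTwist p R).symm
            ((Lvl.mk p R n).symm c • t))
          map_add' := fun x y => by rw [map_add, add_smul, map_add, map_add]
          map_smul' := fun r c => by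
            rw [RingHom.id_apply, Algebra.smul_def r, Algebra.smul_def r, map_mul, algebraMap_lvl,
              algebraMap_lvl, RingEquiv.symm_apply_apply, mul_smul, Algebra.smul_def (r ^ p ^ n),
              map_mul, FrobAlg.algebraMap_twist, RingEquiv.symm_apply_apply, map_mul, ← pow_mul, ← pow_succ] }
    classical
    haveI : Module.Projective R (FrobAlg.Twist p R →₀ Lvl p R n) :=
      Module.Projective.of_equiv (TensorProduct.finsuppScalarLeft R (Lvl p R n) (FrobAlg.Twist p R))
    refine Module.Projective.of_split i π (LinearMap.ext fun x => ?_)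
    let y : FrobAlg.Twist p R := FrobAlg.toTwist p R ((Lvl.mk p R (n + 1)).symm x)
    have hy : Finsupp.linearCombination R id (s y) = y := hs y
    change Finsupp.lsum ℕ _ (Finsupp.mapRange (Lvl.mk p R n) (map_zero _) (s y)) = x
    rw [Finsupp.lsum_apply, Finsupp.sum_mapRange_index (fun _ => map_zero _)]
    rw [Finsupp.linearCombination_apply] at hy
    refine Eq.trans ?_ ((congrArg (fun w => Lvl.mk p R (n + 1) ((FrobAlg.toTwist p R).symm w)) hy).trans
      (by simp [y]))
    rw [map_finsuppSum, map_finsuppSum]
    exact Finsupp.sum_congr fun t _ => by simp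

section Closure

/-- The inclusion of a level. -/
noncomputable def lvlHom (n : ℕ) : Lvl p R n →+* PerfectClosure R p where
  toFun x := PerfectClosure.mk R p (n, (Lvl.mk p R n).symm x)
  map_one' := by
    rw [map_one, PerfectClosure.one_def, PerfectClosure.mk_eq_iff]
    exact ⟨0, by simp⟩
  map_mul' x y := by
    rw [map_mul, PerfectClosure.mk_mul_mk, PerfectClosure.mk_eq_iff]
    exact ⟨0, by simp [Function.iterate_add_apply, iterate_map_mul, mul_pow]⟩
  map_zero' := by rw [map_zero, PerfectClosure.mk_zero_right]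
  map_add' x y := by
    rw [map_add, PerfectClosure.mk_add_mk, PerfectClosure.mk_eq_iff]
    exact ⟨0, by simp [Function.iterate_add_apply, iterate_map_add]⟩

theorem lvlHom_pow (n : ℕ) (x : Lvl p R n) :
    lvlHom p R n x ^ p ^ n = PerfectClosure.of R p ((Lvl.mk p R n).symm x) := by
  rw [← iterateFrobenius_def, coe_iterateFrobenius]
  exact PerfectClosure.iterate_frobenius_mk R p n _

theorem lvlMap_surjective' (x : PerfectClosure R p) : ∃ n y, lvlHom p R n y = x := by
  obtain ⟨⟨n, r⟩, rfl⟩ := PerfectClosure.mk_surjective R p x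
  exact ⟨n, Lvl.mk p R n r, rfl⟩

/-- Moving up one level. -/
theorem exists_lift (n k : ℕ) (y : Lvl p R n) : ∃ y' : Lvl p R (n + k), lvlHom p R (n + k) y' = lvlHom p R n y := by
  refine ⟨Lvl.mk p R (n + k) ((Lvl.mk p R n).symm y ^ p ^ k), ?_⟩
  refine (PerfectClosure.mk_eq_iff _ _ _ _).2 ⟨0, ?_⟩
  simp only [RingEquiv.symm_apply_apply, add_zero, ← coe_iterateFrobenius, iterateFrobenius_def, ← pow_mul,
    ← pow_add, add_comm k n]

theorem exists_lift_le {k m : ℕ} (h : k ≤ m) (y : Lvl p R k) :
    ∃ y' : Lvl p R m, lvlHom p R m y' = lvlHom p R k y := by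
  obtain ⟨e, rfl⟩ := Nat.exists_eq_add_of_le h
  exact exists_lift p R k e y

theorem exists_level {l : ℕ} (x : Fin l → PerfectClosure R p) :
    ∃ (n : ℕ) (y : Fin l → Lvl p R n), ∀ i, lvlHom p R n (y i) = x i := by
  choose k y hy using fun i => lvlMap_surjective' p R (x i)
  choose y' hy' using fun i => exists_lift_le p R (Finset.le_sup (f := k) (Finset.mem_univ i)) (y i)
  exact ⟨_, y', fun i => (hy' i).trans (hy i)⟩

theorem comap_of_surjective : Function.Surjective (PrimeSpectrum.comap (PerfectClosure.of R p)) := by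
  have hint : (PerfectClosure.of R p).IsIntegral := fun x => by
    obtain ⟨⟨n, r⟩, rfl⟩ := PerfectClosure.mk_surjective R p x
    refine ⟨Polynomial.X ^ (p ^ n) - Polynomial.C r,
      Polynomial.monic_X_pow_sub_C _ (pow_ne_zero _ (Fact.out : p.Prime).ne_zero), ?_⟩
    have := lvlHom_pow p R n (Lvl.mk p R n r)
    rw [RingEquiv.symm_apply_apply] at this
    simp only [Polynomial.eval₂_sub, Polynomial.eval₂_X_pow, Polynomial.eval₂_C]
    exact sub_eq_zero.2 this
  letI := (PerfectClosure.of R p).toAlgebra
  haveI : Algebra.IsIntegral R (PerfectClosure R p) := ⟨hint⟩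
  intro P
  have hker : RingHom.ker (algebraMap R (PerfectClosure R p)) ≤ P.asIdeal := fun r hr => by
    obtain ⟨z, hz⟩ := (PerfectClosure.mk_eq_iff R p (0, r) (0, 0)).1 hr
    simp only [zero_add, map_zero, iterate_map_zero, ← coe_iterateFrobenius, iterateFrobenius_def] at hz
    exact P.2.mem_of_pow_mem _ (hz ▸ P.asIdeal.zero_mem)
  obtain ⟨Q, hQ, hQP⟩ := Ideal.exists_ideal_over_prime_of_isIntegral P.asIdeal (S := PerfectClosure R p) ⊥ hker
  obtain ⟨hQp, hQc⟩ := hQP
  exact ⟨⟨Q, hQp⟩, PrimeSpectrum.ext hQc⟩

variable [Algebra R (PerfectClosure R p)] (hM : algebraMap R (PerfectClosure R p) = PerfectClosure.of R p)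

include hM in
theorem lvlHom_algebraMap (n : ℕ) (r : R) :
    lvlHom p R n (algebraMap R (Lvl p R n) r) = algebraMap R (PerfectClosure R p) r := by
  rw [algebraMap_lvl, hM, PerfectClosure.of_apply]
  refine (PerfectClosure.mk_eq_iff _ _ _ _).2 ⟨0, ?_⟩
  simp [← coe_iterateFrobenius, iterateFrobenius_def]

/-- The inclusion of a level, linearly. -/
noncomputable def lvlMap (n : ℕ) : Lvl p R n →ₗ[R] PerfectClosure R p where
  toFun := lvlHom p R n
  map_add' := map_add _
  map_smul' r x := by
    rw [RingHom.id_apply, Algebra.smul_def, map_mul, lvlHom_algebraMap p R hM, Algebra.smul_def]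

variable [Module.Projective R (FrobAlg.Twist p R)]

include hM in
theorem flat_perfectClosure : Module.Flat R (PerfectClosure R p) := by
  rw [Module.Flat.iff_forall_isTrivialRelation]
  intro l f x hx
  obtain ⟨n, y, hy⟩ := exists_level p R x
  have h0 : lvlMap p R hM n (∑ i, f i • y i) = 0 := by
    rw [map_sum]
    simp only [map_smul]
    refine Eq.trans ?_ hx
    exact Finset.sum_congr rfl fun i _ => congrArg (f i • ·) (hy i)
  obtain ⟨z, hz⟩ := (PerfectClosure.mk_eq_iff _ _ _ _).1 (h0.trans (map_zero (lvlHom p R 0)).symm)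
  let up : Lvl p R n →ₗ[R] Lvl p R (n + z) :=
    { toFun := fun a => Lvl.mk p R (n + z) ((Lvl.mk p R n).symm a ^ p ^ z)
      map_add' := fun a b => by rw [map_add, add_pow_char_pow, map_add]
      map_smul' := fun r a => by
        rw [RingHom.id_apply, Algebra.smul_def, Algebra.smul_def, map_mul, algebraMap_lvl, algebraMap_lvl,
          RingEquiv.symm_apply_apply, mul_pow, ← pow_mul, ← pow_add, map_mul, map_pow] }
  have hup : ∀ a, lvlHom p R (n + z) (up a) = lvlHom p R n a := fun a => by
    refine (PerfectClosure.mk_eq_iff _ _ _ _).2 ⟨0, ?_⟩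
    simp only [up, LinearMap.coe_mk, AddHom.coe_mk, RingEquiv.symm_apply_apply, add_zero, ← coe_iterateFrobenius,
      iterateFrobenius_def, ← pow_mul, ← pow_add, add_comm z n]
  have hrel : ∑ i, f i • up (y i) = 0 := by
    rw [show ∑ i, f i • up (y i) = up (∑ i, f i • y i) by simp only [map_sum, map_smul]]
    simp only [zero_add, map_zero, iterate_map_zero, ← coe_iterateFrobenius, iterateFrobenius_def] at hz
    change Lvl.mk p R (n + z) ((Lvl.mk p R n).symm (∑ i, f i • y i) ^ p ^ z) = 0
    rw [hz, map_zero]
  haveI : Module.Flat R (Lvl p R (n + z)) := haveI := projective_lvl p R (n + z); Module.Flat.of_projective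
  obtain ⟨k, a, w, hw, hrel'⟩ := Module.Flat.isTrivialRelation_of_sum_smul_eq_zero (M := Lvl p R (n + z)) (f := f) (x := fun i => up (y i)) hrel
  refine ⟨k, a, fun j => lvlMap p R hM (n + z) (w j), fun i => ?_, hrel'⟩
  rw [← hy i, ← hup, show lvlHom p R (n + z) (up (y i)) = lvlMap p R hM (n + z) (up (y i)) from rfl, show up (y i) = ∑ j, a i j • w j from hw i, map_sum]
  simp only [map_smul]

include hM in
theorem faithfullyFlat_lvlHom (n : ℕ) : (lvlHom p R n).FaithfullyFlat := by
  haveI := flat_perfectClosure p R hM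
  have h0 : (PerfectClosure.of R p).FaithfullyFlat := by
    rw [RingHom.FaithfullyFlat.iff_flat_and_comap_surjective]
    refine ⟨?_, comap_of_surjective p R⟩
    rw [← hM, RingHom.flat_algebraMap_iff]
    infer_instance
  have hbij : Function.Bijective (iterateFrobenius (PerfectClosure R p) p n) :=
    bijective_iterateFrobenius (PerfectClosure R p) p n
  let e : PerfectClosure R p ≃+* PerfectClosure R p := RingEquiv.ofBijective _ hbij
  have : lvlHom p R n = (e.symm : PerfectClosure R p →+* PerfectClosure R p).comp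
      ((PerfectClosure.of R p).comp ((Lvl.mk p R n).symm : Lvl p R n →+* R)) := RingHom.ext fun x =>
    e.injective (by
      simp only [RingHom.coe_comp, Function.comp_apply, RingHom.coe_coe, RingEquiv.apply_symm_apply]
      change iterateFrobenius (PerfectClosure R p) p n (lvlHom p R n x) = _
      rw [iterateFrobenius_def, lvlHom_pow])
  rw [this]
  exact RingHom.FaithfullyFlat.stableUnderComposition _ _
    (RingHom.FaithfullyFlat.stableUnderComposition _ _
      (RingHom.FaithfullyFlat.of_bijective (Lvl.mk p R n).symm.bijective) h0)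
    (RingHom.FaithfullyFlat.of_bijective e.symm.bijective)

include hM in
theorem lvlMap_rTensor_injective (n : ℕ) (T : Type u) [AddCommGroup T] [Module R T] :
    Function.Injective ((lvlMap p R hM n).rTensor T) := by
  letI : Algebra (Lvl p R n) (PerfectClosure R p) := (lvlHom p R n).toAlgebra
  haveI : IsScalarTower R (Lvl p R n) (PerfectClosure R p) :=
    IsScalarTower.of_algebraMap_eq fun r => (lvlHom_algebraMap p R hM n r).symm
  haveI : Module.FaithfullyFlat (Lvl p R n) (PerfectClosure R p) :=
    RingHom.faithfullyFlat_algebraMap_iff.1 (faithfullyFlat_lvlHom p R hM n)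
  let Φ := AlgebraTensorModule.cancelBaseChange R (Lvl p R n) (Lvl p R n) (PerfectClosure R p) T
  have h : ∀ z, (lvlMap p R hM n).rTensor T z = Φ (1 ⊗ₜ[Lvl p R n] z) := fun z => by
    induction z using TensorProduct.induction_on with
    | zero => simp
    | add a b ha hb => simp only [map_add, tmul_add, ha, hb]
    | tmul x t =>
      simp only [LinearMap.rTensor_tmul, Φ, AlgebraTensorModule.cancelBaseChange_tmul]
      congr 1
      exact (mul_one _).symm
  intro a b hab
  rw [h, h] at hab
  exact Module.FaithfullyFlat.tensorProduct_mk_injective (A := Lvl p R n) (B := PerfectClosure R p) _ (Φ.injective hab)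

include hM in
theorem piRightHom_perfectClosure_injective {ι : Type v} (T : ι → Type u) [∀ i, AddCommGroup (T i)] [∀ i, Module R (T i)] :
    Function.Injective (TensorProduct.piRightHom R R (PerfectClosure R p) T) := by
  refine (injective_iff_map_eq_zero _).2 fun z hz => ?_
  obtain ⟨n, w, rfl⟩ : ∃ n w, (lvlMap p R hM n).rTensor (∀ i, T i) w = z := by
    obtain ⟨S, hS⟩ := TensorProduct.exists_finset z
    subst hS
    classical
    let l := S.card
    let e := S.equivFin.symm
    obtain ⟨n, y, hy⟩ := exists_level p R (fun k : Fin l => (e k).1.1)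
    refine ⟨n, ∑ k, y k ⊗ₜ[R] (e k).1.2, ?_⟩
    rw [map_sum, ← S.sum_coe_sort, ← e.sum_comp]
    exact Finset.sum_congr rfl fun k _ => congrArg (· ⊗ₜ[R] _) (hy k)
  haveI := projective_lvl p R n
  suffices w = 0 by rw [this, map_zero]
  apply piRightHom_injective_of_projective (Lvl p R n)
  rw [map_zero]
  funext i
  apply lvlMap_rTensor_injective p R hM n (T i)
  have := congrFun hz i
  rw [piRightHom_rTensor'] at this
  rw [this]
  simp

end Closure

end Groth.Agent.H6Perf
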