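import Groth.Agent.CAlgUI.Pieces
import Mathlib

/-!
# Projective modules and products
-/

universe u v

open TensorProduct

namespace Groth.Agent.H6Perf

variable {R : Type u} [CommRing R] {ι : Type v} {T : ι → Type u} [∀ i, AddCommGroup (T i)] [∀ i, Module R (T i)]

/-- `X ⊗ ∏ T → ∏ (X ⊗ T)` is injective for a projective `X`. -/
theorem piRightHom_injective_of_projective (X : Type u) [AddCommGroup X] [Module R X] [Module.Projective R X] :
    Function.Injective (TensorProduct.piRightHom R R X T) := by
  classical
  obtain ⟨s, hs⟩ := (Module.projective_def (R := R) (P := X)).1 inferInstance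
  let l : (X →₀ R) →ₗ[R] X := Finsupp.linearCombination R id
  have hls : l ∘ₗ s = LinearMap.id := LinearMap.ext hs
  have hnat : ∀ (z : X ⊗[R] (∀ i, T i)) (i : ι), (TensorProduct.piRightHom R R (X →₀ R) T (s.rTensor _ z)) i =
      s.rTensor (T i) (TensorProduct.piRightHom R R X T z i) := fun z i => by
    induction z using TensorProduct.induction_on with
    | zero => simp
    | tmul x t => simp
    | add a b ha hb => simp only [map_add, Pi.add_apply, ha, hb]
  refine (injective_iff_map_eq_zero _).2 fun z hz => ?_
  have h1 : s.rTensor _ z = 0 := by
    have hfree : Function.Injective (TensorProduct.piRightHom R R (X →₀ R) T) := by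
      refine (injective_iff_map_eq_zero _).2 fun w hw => ?_
      apply (TensorProduct.finsuppScalarLeft R (∀ i, T i) X).injective
      rw [map_zero]
      refine Finsupp.ext fun a => funext fun i => ?_
      have key : ∀ w : (X →₀ R) ⊗[R] (∀ i, T i),
          (TensorProduct.finsuppScalarLeft R (∀ i, T i) X w) a i =
            (TensorProduct.finsuppScalarLeft R (T i) X (TensorProduct.piRightHom R R (X →₀ R) T w i)) a := fun w => by
        induction w using TensorProduct.induction_on with
        | zero => simp
        | tmul f t => simp
        | add p q hp hq => simp only [map_add, Finsupp.add_apply, Pi.add_apply, hp, hq]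
      rw [key, hw]
      simp
    apply hfree
    rw [map_zero]
    funext i
    rw [hnat, hz]
    simp
  rw [← LinearMap.rTensor_id_apply (∀ i, T i) X z, ← hls, LinearMap.rTensor_comp_apply, h1, map_zero]

theorem piRightHom_rTensor' {X Y : Type u} [AddCommGroup X] [Module R X] [AddCommGroup Y] [Module R Y]
    (f : X →ₗ[R] Y) (t : X ⊗[R] (∀ i, T i)) (i : ι) :
    TensorProduct.piRightHom R R Y T (f.rTensor _ t) i = f.rTensor (T i) (TensorProduct.piRightHom R R X T t i) := by
  induction t using TensorProduct.induction_on with
  | zero => simp
  | tmul x t => simp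
  | add a b ha hb => simp only [map_add, Pi.add_apply, ha, hb]

theorem piRightHom_apply' {X : Type u} [AddCommGroup X] [Module R X] (t : X ⊗[R] (∀ i, T i)) (i : ι) :
    TensorProduct.piRightHom R R X T t i = (LinearMap.proj i : (∀ i, T i) →ₗ[R] T i).lTensor X t := by
  induction t using TensorProduct.induction_on with
  | zero => simp
  | tmul x t => simp
  | add a b ha hb => simp only [map_add, Pi.add_apply, ha, hb]

end Groth.Agent.H6Perf
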